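import Mathlib.GroupTheory.IndexNormal
import Mathlib.GroupTheory.PGroup
import Mathlib.GroupTheory.Index
import Mathlib.Algebra.Group.End
import Mathlib.GroupTheory.OrderOfElement
import Mathlib.Algebra.BigOperators.Group.Finset.Basic
import Mathlib.GroupTheory.Perm.Cycle.Type

/-!
# Coprime actions on abelian groups with small orbits
-/

set_option autoImplicit false

namespace CfsgLib.SqFreeDeg

variable {X : Type*} [CommGroup X]

/-- The stabiliser of a point. -/
def fixer (P : Subgroup (MulAut X)) (x : X) : Subgroup P where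
  carrier := {s | (s : MulAut X) x = x}
  one_mem' := rfl
  mul_mem' := fun {a b} (ha : (a : MulAut X) x = x) (hb : (b : MulAut X) x = x) => by
    show (a : MulAut X) ((b : MulAut X) x) = x
    rw [hb, ha]
  inv_mem' := fun {a} (ha : (a : MulAut X) x = x) => by
    show (a : MulAut X).symm x = x
    nth_rw 1 [← ha]
    exact MulEquiv.symm_apply_apply _ _

theorem mem_fixer {P : Subgroup (MulAut X)} {x : X} {s : P} : s ∈ fixer P x ↔ (s : MulAut X) x = x :=
  Iff.rfl

variable [Finite X] {p : ℕ} [hp : Fact p.Prime]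

/-- A `p`-group acting coprimely on an abelian group with all orbits of size at most `p` has order
at most `p`. -/
theorem card_dvd_of_fixer_index (P : Subgroup (MulAut X)) [Finite P] (hP : IsPGroup p P)
    (hX : ¬ p ∣ Nat.card X) (h : ∀ x, (fixer P x).index ∣ p) : Nat.card P ∣ p := by
  classical
  by_cases h0 : ∀ x, fixer P x = ⊤
  · have : P = ⊥ := (Subgroup.eq_bot_iff_forall P).mpr fun s hs => MulEquiv.ext fun x =>
      mem_fixer.mp ((h0 x).ge (Subgroup.mem_top (⟨s, hs⟩ : P)))
    rw [this, Subgroup.card_bot]; exact one_dvd p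
  push Not at h0
  obtain ⟨x₀, hx₀⟩ := h0
  set K := fixer P x₀ with hK
  have hidx : K.index = p := (hp.out.eq_one_or_self_of_dvd _ (h x₀)).resolve_left
    fun e => hx₀ (Subgroup.index_eq_one.mp e)
  by_cases hK1 : K = ⊥
  · rw [hK1, Subgroup.index_bot] at hidx
    rw [hidx]
  exfalso
  haveI hKn : K.Normal := by
    refine Subgroup.normal_of_index_eq_minFac_card (hidx.trans ?_)
    obtain ⟨n, hn⟩ := IsPGroup.iff_card.mp hP
    rw [hn, Nat.pow_minFac (fun e => by
      subst e
      have := K.index_dvd_card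
      rw [hidx, hn, pow_zero, Nat.dvd_one] at this
      exact hp.out.ne_one this), hp.out.minFac_eq]
  obtain ⟨k₀, hk₀, hk₁⟩ : ∃ k : P, k ∈ K ∧ k ≠ 1 := by
    by_contra hc
    push Not at hc
    exact hK1 ((Subgroup.eq_bot_iff_forall K).mpr hc)
  obtain ⟨y, hy⟩ : ∃ y, (k₀ : MulAut X) y ≠ y := by
    by_contra hc
    push Not at hc
    exact hk₁ (Subtype.ext (MulEquiv.ext hc))
  haveI : Fintype K := Fintype.ofFinite K
  set n := Nat.card K with hn
  have hcop : (Nat.card X).Coprime n := by
    obtain ⟨j, hj⟩ := IsPGroup.iff_card.mp (hP.to_subgroup K)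
    rw [hn, hj]
    exact ((hp.out.coprime_iff_not_dvd.mpr hX).symm).pow_right j
  have hinj : ∀ a b : X, a ^ n = b ^ n → a = b := fun a b e => (powCoprime hcop).injective e
  let f : X → X := fun z => ∏ k : K, ((k : P) : MulAut X) z
  have fmul : ∀ a b, f (a * b) = f a * f b := fun a b => by
    simp only [f, map_mul, Finset.prod_mul_distrib]
  have ffix : ∀ a, (∀ k : K, ((k : P) : MulAut X) a = a) → f a = a ^ n := fun a ha => by
    simp only [f, ha, Finset.prod_const, Finset.card_univ, hn, Nat.card_eq_fintype_card]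
  have finv : ∀ (k : K) (a : X), ((k : P) : MulAut X) (f a) = f a := fun k a => by
    simp only [f, map_prod]
    exact Fintype.prod_equiv (Equiv.mulLeft k) _ _ fun j => rfl
  have fequiv : ∀ (s : P) (a : X), (s : MulAut X) (f a) = f ((s : MulAut X) a) := fun s a => by
    simp only [f, map_prod]
    let e : K ≃ K :=
      { toFun := fun j => ⟨s * (j : P) * s⁻¹, hKn.conj_mem _ j.2 s⟩
        invFun := fun j => ⟨s⁻¹ * (j : P) * s, by simpa using hKn.conj_mem _ j.2 s⁻¹⟩
        left_inv := fun j => Subtype.ext (show s⁻¹ * (s * (j : P) * s⁻¹) * s = (j : P) by group)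
        right_inv := fun j => Subtype.ext (show s * (s⁻¹ * (j : P) * s) * s⁻¹ = (j : P) by group) }
    refine Fintype.prod_equiv e _ _ fun j => ?_
    show (s : MulAut X) (((j : P) : MulAut X) a) =
      ((s * (j : P) * s⁻¹ : P) : MulAut X) ((s : MulAut X) a)
    simp only [Subgroup.coe_mul, Subgroup.coe_inv, MulAut.mul_apply, MulAut.inv_apply_self]
  set y' := y ^ n * (f y)⁻¹ with hy'
  have fy' : f y' = 1 := by
    have hpow : ∀ m : ℕ, f (y ^ m) = f y ^ m := fun m => by
      simp only [f, map_pow, Finset.prod_pow]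
    have hfi : f (f y)⁻¹ = ((f y)⁻¹) ^ n := ffix _ fun k => by rw [map_inv, finv k y]
    rw [hy', fmul, hpow, hfi, inv_pow, mul_inv_cancel]
  have hy'moved : ¬ ∀ k : K, ((k : P) : MulAut X) y' = y' := fun hc => by
    have := hc ⟨k₀, hk₀⟩
    rw [hy', map_mul, map_inv, finv ⟨k₀, hk₀⟩ y, mul_left_inj, map_pow] at this
    exact hy (hinj _ _ this)
  have hle : fixer P (x₀ * y') ≤ K := fun s hs => by
    have hxK : f x₀ = x₀ ^ n := ffix _ fun k => k.2
    have h1 := congrArg f (mem_fixer.mp hs)
    rw [← fequiv, fmul, fy', mul_one, hxK, map_pow] at h1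
    exact mem_fixer.mpr (hinj _ _ h1)
  have hne : fixer P (x₀ * y') ≠ K := fun e => hy'moved fun k => by
    have h1 := mem_fixer.mp (e.ge k.2)
    rw [map_mul, show ((k : P) : MulAut X) x₀ = x₀ from k.2] at h1
    exact mul_left_cancel h1
  have hlt := Subgroup.index_strictAnti (lt_of_le_of_ne hle hne)
  have := Nat.le_of_dvd hp.out.pos (h (x₀ * y'))
  omega

end CfsgLib.SqFreeDeg
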