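import Cfsg.Agent.Lib.SqFreeDeg.Action
import Cfsg.Agent.Lib.TwoDegrees.Basic
import Cfsg.Agent.Lib.TwoDegrees.Dichotomy
import Cfsg.Agent.Lib.Char.OddDegreeSum
import Cfsg.Agent.Lib.Char.Clifford
import Cfsg.Agent.Lib.Char.DegreeThreePrimes
import Cfsg.Agent.Lib.Fitting.Basic
import Cfsg.Agent.Lib.Layer.FrattiniQuot
import Cfsg.Agent.Lib.PSolvable.Core
import Cfsg.Agent.Lib.Char.CoherenceSmallFactor
import Mathlib.GroupTheory.FiniteAbelian.Duality

/-!
# Solvable groups with squarefree character degrees
-/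

set_option autoImplicit false
set_option linter.style.haveILetI false

namespace CfsgLib.SqFreeDeg

open Cfsg CfsgLib.Char CfsgLib.TwoDegrees
open scoped CfsgLib.Char commutatorElement

universe u

/-- All irreducible degrees are squarefree. -/
def SqFree (G : Type u) [Group G] : Prop :=
  ∀ χ : IrrCharacter G, Squarefree (charDegree (χ : G → ℂ))

theorem SqFree.subgroup {G : Type u} [Group G] [Finite G] (h : SqFree G) (N : Subgroup G) [N.Normal] :
    SqFree N := by
  intro θ
  haveI : Fintype G := Fintype.ofFinite G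
  haveI : Fintype N := Fintype.ofFinite N
  obtain ⟨e, he⟩ : ∃ e : ℕ, (θ : N → ℂ) 1 = e := ⟨_, (exists_nat_degree_irr θ.2).choose_spec.2⟩
  obtain ⟨χ, d, hd, hed⟩ := ThreePrimes.exists_over_dvd N θ e he
  rw [Extraspecial.charDegree_eq he]
  exact ((Extraspecial.charDegree_eq hd) ▸ h χ).squarefree_of_dvd hed

theorem SqFree.quotient {G Q : Type u} [Group G] [Finite G] [Group Q] [Finite Q] (f : G →* Q)
    (hf : Function.Surjective f) (h : SqFree G) : SqFree Q := by
  intro χ
  haveI : Fintype G := Fintype.ofFinite G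
  haveI : Fintype Q := Fintype.ofFinite Q
  obtain ⟨d, -, hd⟩ := exists_nat_degree_irr χ.2
  have h1 := h ⟨_, isIrrCharacter_comp (f := f) hf χ.2⟩
  rw [Extraspecial.charDegree_eq (d := d) (by simpa using hd)] at h1
  rwa [Extraspecial.charDegree_eq hd]

theorem eq_one_or_prime {p : ℕ} (hp : p.Prime) {m n : ℕ} (hm : Squarefree m) (h : m ∣ p ^ n) :
    m ∣ p := by
  obtain ⟨k, -, rfl⟩ := (Nat.dvd_prime_pow hp).mp h
  rcases Nat.lt_or_ge k 2 with hk | hk
  · calc p ^ k ∣ p ^ 1 := pow_dvd_pow p (by omega)
      _ = p := pow_one p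
  · exact absurd (hm p ((pow_two p) ▸ pow_dvd_pow p hk)) (by simp [hp.ne_one])

/-- A `p`-group with squarefree degrees is metabelian. -/
theorem metabelian_pGroup {P : Type u} [Group P] [Finite P] {p : ℕ} [hp : Fact p.Prime]
    (hP : IsPGroup p P) (h : SqFree P) : derivedSeries P 2 = ⊥ := by
  haveI : Fintype P := Fintype.ofFinite P
  obtain ⟨n, hn⟩ := IsPGroup.iff_card.mp hP
  have hcd : ∀ χ : IrrCharacter P, charDegree (χ : P → ℂ) = 1 ∨ charDegree (χ : P → ℂ) = p := by
    intro χ
    obtain ⟨d, hd, -, hdd⟩ := exists_degree_dvd_card χ.2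
    rw [Extraspecial.charDegree_eq hd]
    have h1 := h χ
    rw [Extraspecial.charDegree_eq hd] at h1
    exact hp.out.eq_one_or_self_of_dvd d (eq_one_or_prime hp.out h1 (hn ▸ hdd))
  rw [derivedSeries_succ, derivedSeries_one, Subgroup.commutator_eq_bot_iff_le_centralizer]
  exact fun a ha b hb => derived_abelian hcd hp.out.ne_zero hp.out.ne_one b hb a ha

theorem derivedSeries_eq_bot_of_injective {A B : Type*} [Group A] [Group B] (φ : A →* B)
    (hφ : Function.Injective φ) {k : ℕ} (h : derivedSeries B k = ⊥) : derivedSeries A k = ⊥ := by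
  have h1 := map_derivedSeries_le_derivedSeries φ k
  rw [h, le_bot_iff, Subgroup.map_eq_bot_iff_of_injective _ hφ] at h1
  exact h1

theorem derivedSeries_pi {ι : Type*} {M : ι → Type*} [∀ i, Group (M i)] {k : ℕ}
    (h : ∀ i, derivedSeries (M i) k = ⊥) : derivedSeries (∀ i, M i) k = ⊥ := by
  rw [eq_bot_iff]
  intro x hx
  rw [Subgroup.mem_bot]
  funext i
  have h1 := map_derivedSeries_le_derivedSeries (Pi.evalMonoidHom M i) k
    (Subgroup.mem_map_of_mem _ hx)
  rw [h i, Subgroup.mem_bot] at h1
  exact h1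

/-- A nilpotent group with squarefree degrees is metabelian. -/
theorem metabelian_nilpotent {F : Type u} [Group F] [Finite F] [hn : Group.IsNilpotent F]
    (h : SqFree F) : derivedSeries F 2 = ⊥ := by
  classical
  obtain ⟨e⟩ := ((Group.isNilpotent_of_finite_tfae (G := F)).out 0 4).mp hn
  refine derivedSeries_eq_bot_of_injective e.symm.toMonoidHom e.symm.injective
    (derivedSeries_pi fun q => derivedSeries_pi fun S => ?_)
  haveI : Fact (q : ℕ).Prime := ⟨Nat.prime_of_mem_primeFactors q.2⟩
  haveI : (S : Subgroup F).Normal := Layer.sylow_normal_of_nilpotent hn S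
  exact metabelian_pGroup S.isPGroup' (h.subgroup _)

section Quot

variable {G : Type u} [Group G] [Finite G] (B : Subgroup G) [hBn : B.Normal]

/-- The linear characters of order dividing `m`. -/
def lin (m : ℕ) : Subgroup (B →* ℂˣ) where
  carrier := {l | l ^ m = 1}
  one_mem' := one_pow m
  mul_mem' := fun {a b} (ha : a ^ m = 1) (hb : b ^ m = 1) => by
    show (a * b) ^ m = 1
    refine (mul_pow a b m).trans ?_
    refine (congrArg₂ (· * ·) ha hb).trans ?_
    exact one_mul (1 : B →* ℂˣ)
  inv_mem' := fun {a} (ha : a ^ m = 1) => by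
    show a⁻¹ ^ m = 1
    refine (inv_pow a m).trans ?_
    refine (congrArg Inv.inv ha).trans ?_
    exact inv_one (G := B →* ℂˣ)

theorem act_mem {m : ℕ} {l : B →* ℂˣ} (hl : l ∈ lin B m) (g : G) : act B g l ∈ lin B m := by
  show (act B g l) ^ m = 1
  refine MonoidHom.ext fun n => ?_
  rw [MonoidHom.pow_apply]
  exact DFunLike.congr_fun (hl : l ^ m = 1) (MulAut.conjNormal g n)

/-- The action of the group on these characters. -/
def linAut (m : ℕ) : G →* MulAut (lin B m) where
  toFun g :=
    { toFun := fun l => ⟨act B g⁻¹ l.1, act_mem B l.2 _⟩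
      invFun := fun l => ⟨act B g l.1, act_mem B l.2 _⟩
      left_inv := fun l => Subtype.ext (by
        show act B g (act B g⁻¹ l.1) = l.1
        rw [act_act, inv_mul_cancel, act_one])
      right_inv := fun l => Subtype.ext (by
        show act B g⁻¹ (act B g l.1) = l.1
        rw [act_act, mul_inv_cancel, act_one])
      map_mul' := fun a b => Subtype.ext (act_hom B g⁻¹ a.1 b.1) }
  map_one' := MulEquiv.ext fun l => Subtype.ext (by
    show act B (1 : G)⁻¹ l.1 = l.1
    rw [inv_one, act_one])
  map_mul' := fun a b => MulEquiv.ext fun l => Subtype.ext (by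
    show act B (a * b)⁻¹ l.1 = act B a⁻¹ (act B b⁻¹ l.1)
    rw [act_act, mul_inv_rev])

theorem linAut_eq {m : ℕ} {g : G} {l : lin B m} :
    linAut B m g l = l ↔ g ∈ stab B l.1 := by
  rw [← inv_mem_iff (H := stab B l.1), mem_stab, Subtype.ext_iff]
  rfl

theorem index_stab_squarefree (h : SqFree G) (l : B →* ℂˣ) : Squarefree (stab B l).index := by
  classical
  haveI : Fintype G := Fintype.ofFinite G
  haveI : Fintype B := Fintype.ofFinite B
  let θ : IrrCharacter B := ⟨fun n => (l n : ℂ), isIrrCharacter_monoidHom l⟩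
  obtain ⟨χ, hχ⟩ := OddDegreeSum.exists_over B θ
  obtain ⟨k, hk⟩ := exists_nat_classInner (isCharacter_restrict B (isCharacter_of_isIrr χ.2))
    (isCharacter_of_isIrr θ.2)
  have h1 := clifford_degree B χ.2 θ.2 hχ
  rw [hk, show (θ : B → ℂ) 1 = 1 by simp [θ], mul_one, ← Nat.cast_mul] at h1
  have h2 := h χ
  rw [Extraspecial.charDegree_eq h1] at h2
  have e : stab B l = inertia B (θ : B → ℂ) := by
    ext g
    rw [mem_stab_iff_conjBy, mem_inertia]
  rw [e, ← card_orbit_eq_index]
  exact h2.of_mul_right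

omit [Finite G] in
theorem relIndex_dvd_index_normal [Finite G] (S D : Subgroup G) [D.Normal] :
    S.relIndex D ∣ S.index := by
  obtain ⟨c, hc⟩ := Subgroup.relIndex_dvd_index_of_normal D S
  have h1 := Subgroup.relIndex_mul_index (inf_le_left : S ⊓ D ≤ S)
  have h2 := Subgroup.relIndex_mul_index (inf_le_right : S ⊓ D ≤ D)
  rw [Subgroup.inf_relIndex_left] at h1
  rw [Subgroup.inf_relIndex_right, hc] at h2
  have h0 : D.relIndex S ≠ 0 := Subgroup.index_ne_zero_of_finite
  refine ⟨c, Nat.eq_of_mul_eq_mul_left (Nat.pos_of_ne_zero h0) ?_⟩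
  rw [h1, ← h2]
  ring

/-- A normal `p`-section over a self-centralising abelian Fitting subgroup has order at most `p`. -/
theorem relIndex_dvd_prime (h : SqFree G) (hab : ∀ a ∈ B, ∀ b ∈ B, a * b = b * a)
    (hB : ∀ N : Subgroup G, N.Normal → Group.IsNilpotent N → N ≤ B) {p : ℕ} [hp : Fact p.Prime]
    (D : Subgroup G) [hD : D.Normal] (hBD : B ≤ D) (hDp : ∃ n, B.relIndex D = p ^ n) :
    B.relIndex D ∣ p := by
  classical
  obtain ⟨n, hn⟩ := hDp
  set N₀ := Nat.card B with hN₀
  have hN₀0 : N₀ ≠ 0 := Nat.card_pos.ne'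
  set m := ordCompl[p] N₀ with hm
  set q := ordProj[p] N₀ with hq
  have hqm : q * m = N₀ := Nat.ordProj_mul_ordCompl_eq_self _ _
  have hpm : p.Coprime m := Nat.coprime_ordCompl hp.out hN₀0
  letI : CommGroup B := { (inferInstance : Group B) with
    mul_comm := fun a b => Subtype.ext (hab a a.2 b b.2) }
  haveI : Finite (B →* ℂˣ) := by
    obtain ⟨e⟩ := CommGroup.monoidHom_mulEquiv_of_hasEnoughRootsOfUnity B ℂ
    exact Finite.of_equiv B e.symm.toEquiv
  set X := lin B m
  have hXp : ¬ p ∣ Nat.card X := fun hd => by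
    obtain ⟨x, hx⟩ := exists_prime_orderOf_dvd_card' p hd
    have h1 : x ^ m = 1 := Subtype.ext x.2
    have h2 := orderOf_dvd_of_pow_eq_one h1
    rw [hx] at h2
    exact hp.out.ne_one (Nat.eq_one_of_dvd_coprimes hpm dvd_rfl h2)
  set ψ : D →* MulAut X := (linAut B m).comp D.subtype with hψ
  have hBker : B.subgroupOf D ≤ ψ.ker := fun b hb => by
    refine MonoidHom.mem_ker.mpr (MulEquiv.ext fun l => ?_)
    exact (linAut_eq B).mpr (le_stab B hab l.1 hb)
  have hrange : IsPGroup p ψ.range := by
    intro y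
    obtain ⟨d, hd⟩ := y.2
    refine ⟨n, Subtype.ext ?_⟩
    rw [Subgroup.coe_pow, ← hd, ← map_pow, Subgroup.coe_one]
    refine MonoidHom.mem_ker.mp (hBker ?_)
    rw [← hn]
    exact Subgroup.pow_index_mem (B.subgroupOf D) d
  have hfix : ∀ x : X, (fixer ψ.range x).index ∣ p := by
    intro x
    have e1 : (fixer ψ.range x).comap ψ.rangeRestrict = (stab B x.1).subgroupOf D := by
      ext d
      exact linAut_eq B
    have h1 := Subgroup.index_comap_of_surjective (fixer ψ.range x) ψ.rangeRestrict_surjective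
    rw [e1] at h1
    rw [← h1]
    have hle : B ≤ stab B x.1 := le_stab B hab x.1
    refine eq_one_or_prime hp.out (n := n) ?_ ?_
    · refine Squarefree.squarefree_of_dvd ?_ (index_stab_squarefree B h x.1)
      show (stab B x.1).relIndex D ∣ _
      exact relIndex_dvd_index_normal _ D
    · rw [← hn]
      exact Subgroup.relIndex_dvd_of_le_left D hle
  have hcard := card_dvd_of_fixer_index ψ.range hrange hXp hfix
  rw [← Subgroup.index_ker] at hcard
  refine dvd_trans ?_ hcard
  set K := D ⊓ (linAut B m).ker with hK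
  suffices hKB : K ≤ B by
    refine Subgroup.index_dvd_of_le fun d hd => hKB ⟨d.2, ?_⟩
    exact hd
  refine hB K inferInstance ?_
  -- the part of `B` of order prime to `p` is central in `K`
  let Z : Subgroup K :=
    { carrier := {z | (z : G) ∈ B ∧ (z : G) ^ m = 1}
      one_mem' := ⟨one_mem B, one_pow m⟩
      mul_mem' := fun {a b} ha hb => ⟨mul_mem ha.1 hb.1, by
        rw [Subgroup.coe_mul, Commute.mul_pow (hab _ ha.1 _ hb.1), ha.2, hb.2, one_mul]⟩
      inv_mem' := fun {a} ha => ⟨inv_mem ha.1, by rw [Subgroup.coe_inv, inv_pow, ha.2, inv_one]⟩ }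
  have hZc : Z ≤ Subgroup.center K := by
    intro z hz
    rw [Subgroup.mem_center_iff]
    intro g
    let z' : B := ⟨(z : G), hz.1⟩
    suffices hs : MulAut.conjNormal (g : G) z' = z' by
      refine Subtype.ext ?_
      have := congrArg (fun b : B => (b : G)) hs
      simp only [MulAut.conjNormal_apply, z'] at this
      exact mul_inv_eq_iff_eq_mul.mp this
    by_contra hne
    obtain ⟨l, hl⟩ := CommGroup.exists_apply_ne_one_of_hasEnoughRootsOfUnity B ℂ
      (mul_inv_eq_one.not.mpr hne)
    refine hl ?_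
    have hzm : z' ^ m = 1 := Subtype.ext hz.2
    have hcz : (MulAut.conjNormal (g : G) z' * z'⁻¹) ^ m = 1 := by
      rw [mul_pow, ← map_pow, hzm, map_one, inv_pow, hzm, inv_one, one_mul]
    set w := MulAut.conjNormal (g : G) z' * z'⁻¹ with hw
    have hlq : l ^ q ∈ X := by
      show (l ^ q) ^ m = 1
      refine MonoidHom.ext fun b => ?_
      rw [← pow_mul, hqm, MonoidHom.pow_apply, MonoidHom.one_apply, ← map_pow, hN₀,
        pow_card_eq_one', map_one]
    have hker : g.1⁻¹ ∈ (linAut B m).ker := inv_mem (g.2 : (g : G) ∈ D ⊓ (linAut B m).ker).2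
    have h1 : act B (g : G) (l ^ q) = l ^ q := by
      have h2 := DFunLike.congr_fun (MonoidHom.mem_ker.mp hker) ⟨_, hlq⟩
      have h3 : act B (g : G)⁻¹⁻¹ (l ^ q) = l ^ q := congrArg Subtype.val h2
      rwa [inv_inv] at h3
    have h4 : (l w) ^ q = 1 := by
      have h5 := DFunLike.congr_fun h1 z'
      change (l ^ q) (MulAut.conjNormal (g : G) z') = (l ^ q) z' at h5
      rw [← MonoidHom.pow_apply, hw, map_mul, h5, ← map_mul, mul_inv_cancel, map_one]
    have h6 : (l w) ^ m = 1 := by rw [← map_pow, hcz, map_one]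
    have hcop : q.Coprime m := hpm.pow_left _
    exact orderOf_eq_one_iff.mp (Nat.eq_one_of_dvd_coprimes hcop
      (orderOf_dvd_of_pow_eq_one h4) (orderOf_dvd_of_pow_eq_one h6))
  haveI : Z.Normal := ⟨fun z hz g => by
    rw [Subgroup.mem_center_iff.mp (hZc hz) g, mul_inv_cancel_right]; exact hz⟩
  haveI hq' : Group.IsNilpotent (K ⧸ Z) := by
    refine IsPGroup.isNilpotent (p := p) ?_
    intro y
    induction y using QuotientGroup.induction_on with
    | H y =>
      refine ⟨n + N₀.factorization p, ?_⟩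
      rw [← QuotientGroup.mk_pow, QuotientGroup.eq_one_iff]
      have hy : ((⟨(y : G), y.2.1⟩ : D) ^ (p ^ n)) ∈ B.subgroupOf D := by
        rw [← hn]
        exact Subgroup.pow_index_mem (B.subgroupOf D) _
      have hyB : (y : G) ^ (p ^ n) ∈ B := hy
      refine ⟨?_, ?_⟩
      · rw [Subgroup.coe_pow, pow_add, pow_mul]
        exact pow_mem hyB _
      · rw [Subgroup.coe_pow, pow_add, pow_mul, ← pow_mul, hqm]
        have := pow_card_eq_one' (x := (⟨_, hyB⟩ : B))
        exact congrArg Subtype.val this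
  exact Subgroup.isNilpotent_of_ker_le_center (QuotientGroup.mk' Z)
    (by rwa [QuotientGroup.ker_mk'])

/-- The quotient by a self-centralising abelian Fitting subgroup is metabelian. -/
theorem derived_two_le [Group.IsSolvable G] (h : SqFree G) (hab : ∀ a ∈ B, ∀ b ∈ B, a * b = b * a)
    (hB : ∀ N : Subgroup G, N.Normal → Group.IsNilpotent N → N ≤ B) :
    derivedSeries G 2 ≤ B := by
  classical
  set f := QuotientGroup.mk' B with hf
  have hfs : Function.Surjective f := QuotientGroup.mk'_surjective B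
  set C := fittingSubgroup (G ⧸ B)
  haveI : C.Normal := Fitting.fittingSubgroup_normal
  haveI hCn : Group.IsNilpotent C := Fitting.fittingSubgroup_isNilpotent
  have hsyl : ∀ (p : ℕ) [Fact p.Prime] (S : Sylow p C), Nat.card S ∣ p := by
    intro p hp S
    haveI : (S : Subgroup C).Normal := Layer.sylow_normal_of_nilpotent hCn S
    haveI : (S : Subgroup C).Characteristic := S.characteristic_of_normal inferInstance
    set T := (S : Subgroup C).map C.subtype
    haveI : T.Normal := PSolvable.normal_map_of_characteristic C _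
    set D := T.comap f
    haveI : D.Normal := Subgroup.Normal.comap inferInstance f
    have hBD : B ≤ D := (QuotientGroup.ker_mk' B).ge.trans (Subgroup.ker_le_comap _ _)
    have e : B.relIndex D = Nat.card S := by
      have h1 := Subgroup.relIndex_comap (⊥ : Subgroup (G ⧸ B)) f D
      rw [MonoidHom.comap_bot, hf, QuotientGroup.ker_mk', Subgroup.map_comap_eq_self_of_surjective hfs,
        Subgroup.relIndex_bot_left, Subgroup.card_map_of_injective C.subtype_injective] at h1
      exact h1
    rw [← e]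
    refine relIndex_dvd_prime B h hab hB D hBD ?_
    rw [e]
    exact IsPGroup.iff_card.mp S.isPGroup'
  have hsf : Squarefree (Nat.card C) := by
    refine (Nat.squarefree_iff_factorization_le_one Nat.card_pos.ne').mpr fun p => ?_
    by_cases hp : p.Prime
    · haveI : Fact p.Prime := ⟨hp⟩
      obtain ⟨S⟩ : Nonempty (Sylow p C) := inferInstance
      have h1 := hsyl p S
      rw [S.card_eq_multiplicity] at h1
      exact (Nat.pow_dvd_pow_iff_le_right hp.one_lt).mp (by rwa [pow_one])
    · simp [Nat.factorization_eq_zero_of_not_prime _ hp]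
  haveI : IsCyclic C := by
    obtain ⟨e⟩ := ((Group.isNilpotent_of_finite_tfae (G := C)).out 0 4).mp hCn
    haveI : IsZGroup C := IsZGroup.of_squarefree hsf
    infer_instance
  have hcen : commutator (G ⧸ B) ≤ Subgroup.centralizer (C : Set (G ⧸ B)) := by
    intro x hx
    rw [Subgroup.mem_centralizer_iff]
    intro c hc
    obtain ⟨φ, hφ⟩ : ∃ φ : MulAut C →* (ZMod (Nat.card C))ˣ, Function.Injective φ :=
      ⟨(IsCyclic.mulAutMulEquiv C).toMonoidHom, (IsCyclic.mulAutMulEquiv C).injective⟩
    have h1 : φ (MulAut.conjNormal x : MulAut C) = 1 :=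
      MonoidHom.mem_ker.mp (Abelianization.commutator_subset_ker (φ.comp (MulAut.conjNormal)) hx)
    have h2 : (MulAut.conjNormal x : MulAut C) = 1 := hφ (h1.trans φ.map_one.symm)
    have h3 := congrArg (fun y : C => (y : G ⧸ B)) (DFunLike.congr_fun h2 ⟨c, hc⟩)
    simp only [MulAut.conjNormal_apply, MulAut.one_apply] at h3
    exact (mul_inv_eq_iff_eq_mul.mp h3).symm
  have hle : commutator (G ⧸ B) ≤ C := hcen.trans PSolvable.centralizer_fittingSubgroup_le
  have h2 : derivedSeries (G ⧸ B) 2 = ⊥ := by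
    rw [derivedSeries_succ, derivedSeries_one, Subgroup.commutator_eq_bot_iff_le_centralizer]
    exact hcen.trans (Subgroup.centralizer_le hle)
  intro x hx
  have h3 := map_derivedSeries_le_derivedSeries f 2 (Subgroup.mem_map_of_mem f hx)
  rw [h2, Subgroup.mem_bot] at h3
  exact (QuotientGroup.eq_one_iff x).mp h3

end Quot

/-- The derived length is at most four. -/
theorem derived_four {G : Type u} [Group G] [Finite G] [Group.IsSolvable G] (h : SqFree G) :
    derivedSeries G 4 = ⊥ := by
  classical
  set F := fittingSubgroup G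
  haveI hFn : F.Normal := Fitting.fittingSubgroup_normal
  haveI hFnil : Group.IsNilpotent F := Fitting.fittingSubgroup_isNilpotent
  set f := QuotientGroup.mk' (frattini G) with hf
  have hfs : Function.Surjective f := QuotientGroup.mk'_surjective _
  haveI : Group.IsSolvable (G ⧸ frattini G) := Group.isSolvable_of_surjective hfs
  haveI : (F.map f).Normal := hFn.map f hfs
  have hab : ∀ a ∈ F.map f, ∀ b ∈ F.map f, a * b = b * a := by
    rintro _ ⟨a, ha, rfl⟩ _ ⟨b, hb, rfl⟩
    rw [← commutatorElement_eq_one_iff_mul_comm, ← map_commutatorElement, hf, QuotientGroup.mk'_apply,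
      QuotientGroup.eq_one_iff]
    refine Layer.map_frattini_le_frattini F ⟨⁅(⟨a, ha⟩ : F), ⟨b, hb⟩⁆, ?_, rfl⟩
    exact Descent.commutator_le_frattini_of_nilpotent F
      (Subgroup.commutator_mem_commutator (Subgroup.mem_top _) (Subgroup.mem_top _))
  have hB : ∀ N : Subgroup (G ⧸ frattini G), N.Normal → Group.IsNilpotent N → N ≤ F.map f := by
    intro N hN hn
    haveI := hN
    have h1 := Layer.isNilpotent_comap_of_le_frattini le_rfl N hn
    have h2 : N.comap f ≤ F := Fitting.le_fittingSubgroup (Subgroup.Normal.comap hN f) h1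
    rw [← Subgroup.map_comap_eq_self_of_surjective hfs N]
    exact Subgroup.map_mono h2
  have h2 := derived_two_le (F.map f) (h.quotient f hfs) hab hB
  have hle : derivedSeries G 2 ≤ F := by
    intro x hx
    have h3 := h2 (map_derivedSeries_le_derivedSeries f 2 (Subgroup.mem_map_of_mem f hx))
    obtain ⟨y, hy, e⟩ := h3
    have hΦ : frattini G ≤ F := Fitting.le_fittingSubgroup inferInstance frattini_nilpotent
    have h4 : y⁻¹ * x ∈ F := hΦ (QuotientGroup.eq.mp e)
    simpa using F.mul_mem hy h4
  have hmap : ∀ k, derivedSeries G (2 + k) ≤ (derivedSeries F k).map F.subtype := by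
    intro k
    induction k with
    | zero => rw [derivedSeries_zero, ← MonoidHom.range_eq_map, Subgroup.range_subtype]; exact hle
    | succ k ih =>
      rw [show 2 + (k + 1) = (2 + k) + 1 by omega, derivedSeries_succ, derivedSeries_succ,
        Subgroup.map_commutator]
      exact Subgroup.commutator_mono ih ih
  have := hmap 2
  rwa [metabelian_nilpotent (h.subgroup F), Subgroup.map_bot, le_bot_iff] at this

end CfsgLib.SqFreeDeg
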